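import Mathlib
import Cfsg.Agent.CharThree.Res
import Cfsg.Agent.Omega.Quasithin.Row.EvenOf
import Cfsg.Agent.UGT.U2.Rec.Congr

/-!
# `PΩ₈⁺(3)` is of even characteristic (helper981)

`V = M₂(3) × M₂(3)` with the form `det X + det Y`. `Q` is the group of the maps `(X, Y) ↦ (A X B⁻¹, C Y D⁻¹)` with
`A, B, C, D` in the quaternion group of `SL₂(3)`, and `z : (X, Y) ↦ (-X, Y)`.
-/

set_option autoImplicit false

namespace Cfsg.Agent.H981.OEight

open Matrix Cfsg QuadraticMap Cfsg.Agent.LieClassical.OrthCore Cfsg.Agent.OddHalf.NI3.Bad.Sim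
open scoped MatrixGroups

/-- `2 × 2` matrices over the field with three elements -/
abbrev M2 : Type := Matrix (Fin 2) (Fin 2) (ZMod 3)

/-- the quaternion group in `SL(2,3)` -/
def q8 (A : M2) : Prop := A = 1 ∨ A = -1 ∨ A * A = -1

instance (A : M2) : Decidable (q8 A) := inferInstanceAs (Decidable (A = 1 ∨ A = -1 ∨ A * A = -1))

theorem forall_M2 {P : M2 → Prop} (h : ∀ a b c d : ZMod 3, P !![a, b; c, d]) (A : M2) : P A := by
  rw [Matrix.eta_fin_two A]
  exact h _ _ _ _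

theorem q8_mul_aux : ∀ a b c d a' b' c' d' : ZMod 3, q8 !![a, b; c, d] → q8 !![a', b'; c', d'] →
    q8 (!![a, b; c, d] * !![a', b'; c', d']) := by
  decide +kernel

theorem q8_mul {A B : M2} (hA : q8 A) (hB : q8 B) : q8 (A * B) := by
  have h1 := Matrix.eta_fin_two A
  have h2 := Matrix.eta_fin_two B
  rw [h1] at hA ⊢
  rw [h2] at hB ⊢
  exact q8_mul_aux _ _ _ _ _ _ _ _ hA hB

theorem det_of_q8 : ∀ A : M2, q8 A → A.det = 1 := forall_M2 (by decide +kernel)

theorem q8_pow {A : M2} (h : q8 A) : A ^ 4 = 1 := by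
  have e : A ^ 4 = (A * A) * (A * A) := by simp only [pow_succ, pow_zero, one_mul, mul_assoc]
  rw [e]
  rcases h with rfl | rfl | h
  · simp
  · simp
  · rw [h, neg_mul_neg, mul_one]

/-- every element of the quaternion group is a commutator of `SL(2,3)` -/
theorem comm_ex : ∀ A : M2, q8 A → ∃ S T : M2, S.det = 1 ∧ T.det = 1 ∧ A * (T * S) = S * T := by
  have key : ∀ a b c d : ZMod 3, q8 !![a, b; c, d] → ∃ a1 b1 c1 d1 : ZMod 3, (!![a1, b1; c1, d1] : M2).det = 1 ∧
    ∃ a2 b2 c2 d2 : ZMod 3, (!![a2, b2; c2, d2] : M2).det = 1 ∧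
      !![a, b; c, d] * (!![a2, b2; c2, d2] * !![a1, b1; c1, d1]) = !![a1, b1; c1, d1] * !![a2, b2; c2, d2] := by
    decide +kernel
  refine forall_M2 fun a b c d h => ?_
  obtain ⟨a1, b1, c1, d1, h1, a2, b2, c2, d2, h2, h3⟩ := key a b c d h
  exact ⟨_, _, h1, h2, h3⟩

/-- `i` -/
def ii : M2 := !![0, 2; 1, 0]

/-- `j` -/
def jj : M2 := !![1, 1; 1, 2]

theorem q8_ii : q8 ii := Or.inr (Or.inr (by decide +kernel))

theorem q8_jj : q8 jj := Or.inr (Or.inr (by decide +kernel))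

theorem comm_scalar : ∀ A : M2, A * ii = ii * A → A * jj = jj * A → A = 0 ∨ A = 1 ∨ A = -1 :=
  forall_M2 (by decide +kernel)

/-- `1, i, j, ij` span -/
theorem span : ∀ A : M2, ∃ a b c d : ZMod 3, A = a • (1 : M2) + b • ii + c • jj + d • (ii * jj) :=
  forall_M2 (by decide +kernel)

theorem eq_zero_of_neg {D : M2} (h : D = -D) : D = 0 := by
  have h1 : ∀ a : ZMod 3, a = -a → a = 0 := by decide
  ext i j
  exact h1 _ (congrFun (congrFun h i) j)

/-- the bilinear form -/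
def pl (X Y : M2) : ZMod 3 := X 0 0 * Y 1 1 + X 1 1 * Y 0 0 - X 0 1 * Y 1 0 - X 1 0 * Y 0 1

theorem det_add (X Y : M2) : (X + Y).det = X.det + Y.det + pl X Y := by
  simp only [Matrix.det_fin_two, Matrix.add_apply, pl]
  ring

theorem pl_nondeg {X : M2} (h : ∀ Y, pl X Y = 0) : X = 0 := by
  ext i j
  have h1 := h !![1, 0; 0, 0]
  have h2 := h !![0, 1; 0, 0]
  have h3 := h !![0, 0; 1, 0]
  have h4 := h !![0, 0; 0, 1]
  simp [pl] at h1 h2 h3 h4
  fin_cases i <;> fin_cases j <;> simp_all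

/-- `(L_A + R_B)² X = -X` -/
def sq1 (A B X : M2) : Prop := A * (A * X + X * B) + (A * X + X * B) * B = -X

instance (A B X : M2) : Decidable (sq1 A B X) := inferInstanceAs (Decidable (_ = _))

/-- the conclusion -/
def sq2 (A B : M2) : Prop := (B = 0 ∧ A * A = -1) ∨ (A = 0 ∧ B * B = -1)

instance (A B : M2) : Decidable (sq2 A B) := inferInstanceAs (Decidable ((B = 0 ∧ A * A = -1) ∨ (A = 0 ∧ B * B = -1)))

theorem skew_aux : ∀ p q r t u v : ZMod 3, sq1 !![p, q; r, -p] !![t, u; v, -t] !![1, 0; 0, 0] →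
    sq1 !![p, q; r, -p] !![t, u; v, -t] !![0, 1; 0, 0] → sq1 !![p, q; r, -p] !![t, u; v, -t] !![0, 0; 1, 0] →
    sq1 !![p, q; r, -p] !![t, u; v, -t] !![0, 0; 0, 1] → sq2 !![p, q; r, -p] !![t, u; v, -t] := by
  decide +kernel

/-- **isometries of square `-1`** -/
theorem isom {h : M2 →ₗ[ZMod 3] M2} (hd : ∀ X, (h X).det = X.det) (h2 : ∀ X, h (h X) = -X) :
    (∃ A : M2, A * A = -1 ∧ ∀ X, h X = A * X) ∨ (∃ B : M2, B * B = -1 ∧ ∀ X, h X = X * B) := by
  have hpl : ∀ X Y, pl (h X) (h Y) = pl X Y := by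
    intro X Y
    have e1 := det_add (h X) (h Y)
    have e2 := det_add X Y
    rw [← map_add, hd, hd, hd, e2] at e1
    linear_combination -e1
  have hplneg : ∀ X Y, pl (-X) Y = - pl X Y := by
    intro X Y
    simp only [pl, Matrix.neg_apply]
    ring
  have hsk : ∀ X Y, pl (h X) Y + pl X (h Y) = 0 := by
    intro X Y
    have e1 := hpl (h X) Y
    rw [h2, hplneg] at e1
    linear_combination -e1
  have s11 := hsk !![1, 0; 0, 0] !![1, 0; 0, 0]
  have s12 := hsk !![1, 0; 0, 0] !![0, 1; 0, 0]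
  have s13 := hsk !![1, 0; 0, 0] !![0, 0; 1, 0]
  have s14 := hsk !![1, 0; 0, 0] !![0, 0; 0, 1]
  have s22 := hsk !![0, 1; 0, 0] !![0, 1; 0, 0]
  have s23 := hsk !![0, 1; 0, 0] !![0, 0; 1, 0]
  have s24 := hsk !![0, 1; 0, 0] !![0, 0; 0, 1]
  have s33 := hsk !![0, 0; 1, 0] !![0, 0; 1, 0]
  have s34 := hsk !![0, 0; 1, 0] !![0, 0; 0, 1]
  have s44 := hsk !![0, 0; 0, 1] !![0, 0; 0, 1]
  simp only [pl, Matrix.of_apply, Matrix.cons_val_zero, Matrix.cons_val_one, Matrix.cons_val',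
    Matrix.cons_val_fin_one, mul_one, mul_zero, one_mul, zero_mul, add_zero, zero_add, sub_zero, zero_sub]
    at s11 s12 s13 s14 s22 s23 s24 s33 s34 s44
  have h3 : (3 : ZMod 3) = 0 := by decide
  obtain ⟨a, ha⟩ : ∃ a : M2, h !![1, 0; 0, 0] = a := ⟨_, rfl⟩
  obtain ⟨b, hb⟩ : ∃ a : M2, h !![0, 1; 0, 0] = a := ⟨_, rfl⟩
  obtain ⟨c, hc⟩ : ∃ a : M2, h !![0, 0; 1, 0] = a := ⟨_, rfl⟩
  obtain ⟨d, hd'⟩ : ∃ a : M2, h !![0, 0; 0, 1] = a := ⟨_, rfl⟩
  rw [ha] at s11 s12 s13 s14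
  rw [hb] at s12 s22 s23 s24
  rw [hc] at s13 s23 s33 s34
  rw [hd'] at s14 s24 s34 s44
  have z11 : a 1 1 = 0 := by linear_combination a 1 1 * h3 - s11
  have z22 : b 1 0 = 0 := by linear_combination b 1 0 * h3 + s22
  have z33 : c 0 1 = 0 := by linear_combination c 0 1 * h3 + s33
  have z44 : d 0 0 = 0 := by linear_combination d 0 0 * h3 - s44
  let p : ZMod 3 := -(a 0 0 + b 0 1)
  let t : ZMod 3 := -(a 0 0 - b 0 1)
  let A : M2 := !![p, c 0 0; a 1 0, -p]
  let B : M2 := !![t, a 0 1; b 0 0, -t]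
  have hAB : ∀ X, h X = A * X + X * B := by
    intro X
    have hX : X = X 0 0 • (!![1, 0; 0, 0] : M2) + X 0 1 • (!![0, 1; 0, 0] : M2) + X 1 0 • (!![0, 0; 1, 0] : M2) +
        X 1 1 • (!![0, 0; 0, 1] : M2) := by
      ext i j
      fin_cases i <;> fin_cases j <;> simp
    have hX' : h X = X 0 0 • a + X 0 1 • b + X 1 0 • c + X 1 1 • d := by
      conv_lhs => rw [hX]
      simp only [map_add, map_smul, ha, hb, hc, hd']
    rw [hX']
    ext i j
    fin_cases i <;> fin_cases j <;>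
      simp only [A, B, p, t, Matrix.add_apply, Matrix.smul_apply, smul_eq_mul, Matrix.mul_apply, Fin.sum_univ_two,
        Matrix.of_apply, Matrix.cons_val_zero, Matrix.cons_val_one, Matrix.cons_val', Matrix.cons_val_fin_one,
        Fin.zero_eta, Fin.mk_one, Fin.isValue]
    · linear_combination X 0 0 * a 0 0 * h3 + X 1 1 * z44
    · linear_combination b 0 1 * X 0 1 * h3 + X 1 0 * z33 - X 1 1 * s34
    · linear_combination X 0 1 * z22 - X 1 0 * s23 - X 1 0 * b 0 1 * h3 - X 1 1 * s24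
    · linear_combination X 0 0 * z11 + X 0 1 * s12 + X 1 0 * s13 + X 1 1 * s14 - X 1 1 * a 0 0 * h3
  have h40 : ∀ X, sq1 A B X := by
    intro X
    have e1 := h2 X
    rw [hAB, hAB] at e1
    exact e1
  have h4 := skew_aux p (c 0 0) (a 1 0) t (a 0 1) (b 0 0) (h40 _) (h40 _) (h40 _) (h40 _)
  rcases h4 with ⟨h5, h6⟩ | ⟨h5, h6⟩
  · left
    refine ⟨A, h6, fun X => ?_⟩
    rw [hAB]
    change A * X + X * B = _
    rw [show B = 0 from h5, mul_zero, add_zero]
  · right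
    refine ⟨B, h6, fun X => ?_⟩
    rw [hAB]
    rw [show A = 0 from h5, zero_mul, zero_add]

/-! ### the form -/

/-- the space -/
abbrev V : Type := M2 × M2

/-- the entries -/
abbrev en (i j : Fin 2) : M2 →ₗ[ZMod 3] ZMod 3 := Matrix.entryLinearMap (ZMod 3) (ZMod 3) i j

/-- the form `det X + det Y` -/
def Qf : QuadraticForm (ZMod 3) V :=
  linMulLin ((en 0 0).comp (LinearMap.fst _ _ _)) ((en 1 1).comp (LinearMap.fst _ _ _)) -
    linMulLin ((en 0 1).comp (LinearMap.fst _ _ _)) ((en 1 0).comp (LinearMap.fst _ _ _)) +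
    linMulLin ((en 0 0).comp (LinearMap.snd _ _ _)) ((en 1 1).comp (LinearMap.snd _ _ _)) -
    linMulLin ((en 0 1).comp (LinearMap.snd _ _ _)) ((en 1 0).comp (LinearMap.snd _ _ _))

theorem Qf_apply (v : V) : Qf v = v.1.det + v.2.det := by
  simp only [Qf, QuadraticMap.sub_apply, QuadraticMap.add_apply, linMulLin_apply, LinearMap.comp_apply,
    LinearMap.fst_apply, LinearMap.snd_apply, Matrix.entryLinearMap_apply, Matrix.det_fin_two]
  ring

theorem polar_Qf (v w : V) : polar Qf v w = pl v.1 w.1 + pl v.2 w.2 := by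
  simp only [polar, Qf_apply, Prod.fst_add, Prod.snd_add, det_add]
  ring

theorem nondeg : Nondeg Qf := by
  intro x hx
  apply Prod.ext
  · apply pl_nondeg
    intro Y
    have := hx (Y, 0)
    rw [polar_Qf] at this
    simpa [pl] using this
  · apply pl_nondeg
    intro Y
    have := hx (0, Y)
    rw [polar_Qf] at this
    simpa [pl] using this

theorem finrank_V : Module.finrank (ZMod 3) V = 8 := by
  rw [Module.finrank_prod, Module.finrank_matrix]
  simp

/-- the coordinates -/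
def coe8 : V ≃ₗ[ZMod 3] (Fin 4 ⊕ Fin 4 → ZMod 3) where
  toFun v := Sum.elim ![v.1 0 0, -v.1 0 1, v.2 0 0, -v.2 0 1] ![v.1 1 1, v.1 1 0, v.2 1 1, v.2 1 0]
  invFun f := (!![f (.inl 0), -f (.inl 1); f (.inr 1), f (.inr 0)], !![f (.inl 2), -f (.inl 3); f (.inr 3), f (.inr 2)])
  left_inv v := by
    apply Prod.ext <;> ext i j <;> fin_cases i <;> fin_cases j <;> simp
  right_inv f := by
    funext i
    rcases i with i | i <;> fin_cases i <;> simp
  map_add' v w := by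
    funext i
    rcases i with i | i <;> fin_cases i <;> simp [add_comm]
  map_smul' c v := by
    funext i
    rcases i with i | i <;> fin_cases i <;> simp

theorem sml : Sml Qf (LieClassical.OrthForms.plusForm 4 (ZMod 3)) := by
  refine ⟨coe8, 1, one_ne_zero, fun v => ?_⟩
  rw [LieClassical.OrthForms.coe_plusForm, one_mul, Qf_apply]
  simp [Cfsg.quadFormPlus, coe8, Fin.sum_univ_four, Matrix.det_fin_two]
  ring

end Cfsg.Agent.H981.OEight
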