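import Mathlib
import Cfsg.Agent.H981.OEightBase

/-!
# `PΩ₈⁺(3)` is of even characteristic (helper981)

`V = M₂(3) × M₂(3)` with the form `det X + det Y`. `Q` is the group of the maps `(X, Y) ↦ (A X B⁻¹, C Y D⁻¹)` with
`A, B, C, D` in the quaternion group of `SL₂(3)`, and `z : (X, Y) ↦ (-X, Y)`.
-/

set_option autoImplicit false

namespace Cfsg.Agent.H981.OEight

open Matrix Cfsg QuadraticMap Cfsg.Agent.LieClassical.OrthCore Cfsg.Agent.OddHalf.NI3.Bad.Sim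
open scoped commutatorElement

/-- `SL₂(3)` -/
abbrev S2 : Type := Matrix.SpecialLinearGroup (Fin 2) (ZMod 3)

/-- the quaternion group -/
def Q8 : Subgroup S2 where
  carrier := {A | q8 (A : M2)}
  one_mem' := Or.inl rfl
  mul_mem' {A B} hA hB := by
    change q8 ((A * B : S2) : M2)
    rw [Matrix.SpecialLinearGroup.coe_mul]
    exact q8_mul hA hB
  inv_mem' {A} hA := by
    have h4 : A ^ 4 = 1 := by
      apply Subtype.ext
      change ((A ^ 4 : S2) : M2) = 1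
      rw [Matrix.SpecialLinearGroup.coe_pow]
      exact q8_pow hA
    have h1 : A⁻¹ = A * (A * A) := by
      rw [inv_eq_iff_mul_eq_one, ← h4]
      simp only [pow_succ, pow_zero, one_mul, mul_assoc]
    change q8 ((A⁻¹ : S2) : M2)
    rw [h1, Matrix.SpecialLinearGroup.coe_mul, Matrix.SpecialLinearGroup.coe_mul]
    exact q8_mul hA (q8_mul hA hA)

theorem mem_Q8 {A : S2} : A ∈ Q8 ↔ q8 (A : M2) := Iff.rfl

/-- the parameter group -/
abbrev P4 : Type := (S2 × S2) × (S2 × S2)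

/-- the action -/
def Phi : P4 →* (V ≃ₗ[ZMod 3] V) where
  toFun p :=
    { toFun := fun v => ((p.1.1 : M2) * v.1 * ((p.1.2⁻¹ : S2) : M2), (p.2.1 : M2) * v.2 * ((p.2.2⁻¹ : S2) : M2))
      invFun := fun v => (((p.1.1⁻¹ : S2) : M2) * v.1 * (p.1.2 : M2), ((p.2.1⁻¹ : S2) : M2) * v.2 * (p.2.2 : M2))
      map_add' := fun v w => by
        apply Prod.ext
        · simp only [Prod.fst_add, mul_add, add_mul]
        · simp only [Prod.snd_add, mul_add, add_mul]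
      map_smul' := fun c v => by
        apply Prod.ext
        · simp only [Prod.smul_fst, mul_smul_comm, smul_mul_assoc, RingHom.id_apply]
        · simp only [Prod.smul_snd, mul_smul_comm, smul_mul_assoc, RingHom.id_apply]
      left_inv := fun v => by
        have h1 : ∀ A : S2, ((A⁻¹ : S2) : M2) * (A : M2) = 1 := fun A => by
          rw [← Matrix.SpecialLinearGroup.coe_mul, inv_mul_cancel, Matrix.SpecialLinearGroup.coe_one]
        apply Prod.ext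
        · change ((p.1.1⁻¹ : S2) : M2) * ((p.1.1 : M2) * v.1 * ((p.1.2⁻¹ : S2) : M2)) * (p.1.2 : M2) = v.1
          rw [show ((p.1.1⁻¹ : S2) : M2) * ((p.1.1 : M2) * v.1 * ((p.1.2⁻¹ : S2) : M2)) * (p.1.2 : M2) =
            (((p.1.1⁻¹ : S2) : M2) * (p.1.1 : M2)) * v.1 * (((p.1.2⁻¹ : S2) : M2) * (p.1.2 : M2)) by
              simp only [mul_assoc], h1, h1, one_mul, mul_one]
        · change ((p.2.1⁻¹ : S2) : M2) * ((p.2.1 : M2) * v.2 * ((p.2.2⁻¹ : S2) : M2)) * (p.2.2 : M2) = v.2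
          rw [show ((p.2.1⁻¹ : S2) : M2) * ((p.2.1 : M2) * v.2 * ((p.2.2⁻¹ : S2) : M2)) * (p.2.2 : M2) =
            (((p.2.1⁻¹ : S2) : M2) * (p.2.1 : M2)) * v.2 * (((p.2.2⁻¹ : S2) : M2) * (p.2.2 : M2)) by
              simp only [mul_assoc], h1, h1, one_mul, mul_one]
      right_inv := fun v => by
        have h1 : ∀ A : S2, (A : M2) * ((A⁻¹ : S2) : M2) = 1 := fun A => by
          rw [← Matrix.SpecialLinearGroup.coe_mul, mul_inv_cancel, Matrix.SpecialLinearGroup.coe_one]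
        apply Prod.ext
        · change (p.1.1 : M2) * (((p.1.1⁻¹ : S2) : M2) * v.1 * (p.1.2 : M2)) * ((p.1.2⁻¹ : S2) : M2) = v.1
          rw [show (p.1.1 : M2) * (((p.1.1⁻¹ : S2) : M2) * v.1 * (p.1.2 : M2)) * ((p.1.2⁻¹ : S2) : M2) =
            ((p.1.1 : M2) * ((p.1.1⁻¹ : S2) : M2)) * v.1 * ((p.1.2 : M2) * ((p.1.2⁻¹ : S2) : M2)) by
              simp only [mul_assoc], h1, h1, one_mul, mul_one]
        · change (p.2.1 : M2) * (((p.2.1⁻¹ : S2) : M2) * v.2 * (p.2.2 : M2)) * ((p.2.2⁻¹ : S2) : M2) = v.2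
          rw [show (p.2.1 : M2) * (((p.2.1⁻¹ : S2) : M2) * v.2 * (p.2.2 : M2)) * ((p.2.2⁻¹ : S2) : M2) =
            ((p.2.1 : M2) * ((p.2.1⁻¹ : S2) : M2)) * v.2 * ((p.2.2 : M2) * ((p.2.2⁻¹ : S2) : M2)) by
              simp only [mul_assoc], h1, h1, one_mul, mul_one] }
  map_one' := by
    ext v : 1
    change (((1 : S2) : M2) * v.1 * (((1 : S2)⁻¹ : S2) : M2), ((1 : S2) : M2) * v.2 * (((1 : S2)⁻¹ : S2) : M2)) = v
    rw [inv_one, Matrix.SpecialLinearGroup.coe_one, one_mul, mul_one, one_mul, mul_one]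
  map_mul' p q := by
    ext v : 1
    change (((p.1.1 * q.1.1 : S2) : M2) * v.1 * (((p.1.2 * q.1.2)⁻¹ : S2) : M2),
      ((p.2.1 * q.2.1 : S2) : M2) * v.2 * (((p.2.2 * q.2.2)⁻¹ : S2) : M2)) =
      ((p.1.1 : M2) * ((q.1.1 : M2) * v.1 * ((q.1.2⁻¹ : S2) : M2)) * ((p.1.2⁻¹ : S2) : M2),
        (p.2.1 : M2) * ((q.2.1 : M2) * v.2 * ((q.2.2⁻¹ : S2) : M2)) * ((p.2.2⁻¹ : S2) : M2))
    rw [_root_.mul_inv_rev, _root_.mul_inv_rev]
    simp only [Matrix.SpecialLinearGroup.coe_mul, mul_assoc]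

theorem Phi_apply (p : P4) (v : V) : Phi p v =
    ((p.1.1 : M2) * v.1 * ((p.1.2⁻¹ : S2) : M2), (p.2.1 : M2) * v.2 * ((p.2.2⁻¹ : S2) : M2)) := rfl

theorem Phi_mem_O (p : P4) : Phi p ∈ O Qf := by
  intro v
  rw [Qf_apply, Qf_apply, Phi_apply]
  simp only [Matrix.det_mul, Matrix.SpecialLinearGroup.det_coe, one_mul, mul_one]

/-- the parameters of `Q` -/
def QP : Subgroup P4 := (Q8.prod Q8).prod (Q8.prod Q8)

/-- the group `Q` in `GL(V)` -/
def QV : Subgroup (V ≃ₗ[ZMod 3] V) := QP.map Phi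

theorem exists_comm {A : S2} (hA : A ∈ Q8) : ∃ S T : S2, A = ⁅S, T⁆ := by
  obtain ⟨S, T, hS, hT, h⟩ := comm_ex A hA
  let S' : S2 := ⟨S, hS⟩
  let T' : S2 := ⟨T, hT⟩
  refine ⟨S', T', ?_⟩
  have h1 : A * (T' * S') = S' * T' := by
    apply Subtype.ext
    exact h
  rw [commutatorElement_def]
  calc A = A * (T' * S') * (S'⁻¹ * T'⁻¹) := by group
    _ = _ := by rw [h1]; group

theorem QV_le : QV ≤ Om Qf := by
  rintro _ ⟨p, ⟨⟨h1, h2⟩, ⟨h3, h4⟩⟩, rfl⟩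
  obtain ⟨S1, T1, e1⟩ := exists_comm h1
  obtain ⟨S2', T2, e2⟩ := exists_comm h2
  obtain ⟨S3, T3, e3⟩ := exists_comm h3
  obtain ⟨S4, T4, e4⟩ := exists_comm h4
  have hp : p = ⁅(((S1, S2'), (S3, S4)) : P4), ((T1, T2), (T3, T4))⁆ := by
    apply Prod.ext
    · exact Prod.ext e1 e2
    · exact Prod.ext e3 e4
  rw [hp, map_commutatorElement]
  exact Subgroup.commutator_mem_commutator (Phi_mem_O _) (Phi_mem_O _)

theorem isPGroup_QV : IsPGroup 2 QV := by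
  have h1 : IsPGroup 2 QP := by
    rintro ⟨p, ⟨⟨h1, h2⟩, ⟨h3, h4⟩⟩⟩
    refine ⟨2, ?_⟩
    have h5 : ∀ A : S2, A ∈ Q8 → A ^ 2 ^ 2 = 1 := fun A hA => by
      apply Subtype.ext
      change ((A ^ 4 : S2) : M2) = 1
      rw [Matrix.SpecialLinearGroup.coe_pow]
      exact q8_pow hA
    apply Subtype.ext
    apply Prod.ext
    · exact Prod.ext (h5 _ h1) (h5 _ h2)
    · exact Prod.ext (h5 _ h3) (h5 _ h4)
  exact h1.map Phi

theorem polar_eq {w : V ≃ₗ[ZMod 3] V} (hw : w ∈ O Qf) (a b : V) : polar Qf (w a) (w b) = polar Qf a b := by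
  simp only [polar, ← map_add]
  rw [hw, hw, hw]

/-- the elements `(X, Y) ↦ (A X, Y)` etc. -/
theorem phi_first (A B : S2) (v : V) : Phi ((A, B), 1) v = ((A : M2) * v.1 * ((B⁻¹ : S2) : M2), v.2) := by
  rw [Phi_apply]
  apply Prod.ext
  · rfl
  · change ((1 : S2) : M2) * v.2 * (((1 : S2)⁻¹ : S2) : M2) = v.2
    rw [inv_one, Matrix.SpecialLinearGroup.coe_one, one_mul, mul_one]

theorem phi_second (A B : S2) (v : V) : Phi (1, (A, B)) v = (v.1, (A : M2) * v.2 * ((B⁻¹ : S2) : M2)) := by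
  rw [Phi_apply]
  apply Prod.ext
  · change ((1 : S2) : M2) * v.1 * (((1 : S2)⁻¹ : S2) : M2) = v.1
    rw [inv_one, Matrix.SpecialLinearGroup.coe_one, one_mul, mul_one]
  · rfl

theorem first_mem {A B : S2} (hA : A ∈ Q8) (hB : B ∈ Q8) : Phi ((A, B), 1) ∈ QV :=
  ⟨((A, B), 1), ⟨⟨hA, hB⟩, ⟨Q8.one_mem, Q8.one_mem⟩⟩, rfl⟩

theorem second_mem {A B : S2} (hA : A ∈ Q8) (hB : B ∈ Q8) : Phi (1, (A, B)) ∈ QV :=
  ⟨(1, (A, B)), ⟨⟨Q8.one_mem, Q8.one_mem⟩, ⟨hA, hB⟩⟩, rfl⟩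

/-- an element of the quaternion group from a matrix -/
def mk8 (A : M2) (h : q8 A) : S2 := ⟨A, det_of_q8 A h⟩

theorem mk8_mem {A : M2} (h : q8 A) : mk8 A h ∈ Q8 := h

/-- **isometries of square `-1` on the first summand, trivial on the second** -/
theorem mem_of_first {w : V ≃ₗ[ZMod 3] V} (hw : w ∈ O Qf) (h2 : ∀ Y, w (0, Y) = (0, Y))
    (h1 : ∀ X, w (w (X, 0)) = (-X, 0)) : w ∈ QV := by
  have hs : ∀ X, (w (X, 0)).2 = 0 := by
    intro X
    apply pl_nondeg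
    intro Y
    have e1 := polar_eq hw (X, 0) (0, Y)
    rw [h2, polar_Qf, polar_Qf] at e1
    simpa [pl] using e1
  let h : M2 →ₗ[ZMod 3] M2 := (LinearMap.fst (ZMod 3) M2 M2).comp ((w : V →ₗ[ZMod 3] V).comp (LinearMap.inl (ZMod 3) M2 M2))
  have hh : ∀ X, w (X, 0) = (h X, 0) := fun X => Prod.ext rfl (hs X)
  have hdet : ∀ X, (h X).det = X.det := by
    intro X
    have e1 := hw (X, 0)
    rw [hh, Qf_apply, Qf_apply] at e1
    simpa using e1
  have hsq : ∀ X, h (h X) = -X := by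
    intro X
    have e1 := h1 X
    rw [hh, hh] at e1
    exact congrArg Prod.fst e1
  have hv : ∀ v : V, w v = (h v.1, v.2) := by
    intro v
    have e1 : v = (v.1, 0) + (0, v.2) := by simp
    conv_lhs => rw [e1]
    rw [map_add, hh, h2]
    simp
  rcases isom hdet hsq with ⟨A, hA, hA'⟩ | ⟨B, hB, hB'⟩
  · have hA8 : q8 A := Or.inr (Or.inr hA)
    have e : w = Phi ((mk8 A hA8, 1), 1) := by
      ext v : 1
      rw [hv, phi_first, hA', inv_one, Matrix.SpecialLinearGroup.coe_one, mul_one]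
      rfl
    rw [e]
    exact first_mem (mk8_mem hA8) Q8.one_mem
  · have hB8 : q8 B := Or.inr (Or.inr hB)
    have e : w = Phi ((1, (mk8 B hB8)⁻¹), 1) := by
      ext v : 1
      rw [hv, phi_first, hB', inv_inv, Matrix.SpecialLinearGroup.coe_one, one_mul]
      rfl
    rw [e]
    exact first_mem Q8.one_mem (Q8.inv_mem (mk8_mem hB8))

/-- the swap -/
def sw : V ≃ₗ[ZMod 3] V := LinearEquiv.prodComm (ZMod 3) M2 M2

theorem sw_apply (v : V) : sw v = (v.2, v.1) := rfl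

theorem sw_mul : sw * sw = 1 := by
  ext v : 1
  rfl

theorem sw_inv : sw⁻¹ = sw := inv_eq_of_mul_eq_one_left sw_mul

theorem sw_mem : sw ∈ O Qf := by
  intro v
  rw [Qf_apply, Qf_apply, sw_apply, add_comm]

theorem sw_conj {w : V ≃ₗ[ZMod 3] V} (hw : w ∈ QV) : sw * w * sw⁻¹ ∈ QV := by
  obtain ⟨p, ⟨⟨h1, h2⟩, ⟨h3, h4⟩⟩, rfl⟩ := hw
  refine ⟨(p.2, p.1), ⟨⟨h3, h4⟩, ⟨h1, h2⟩⟩, ?_⟩
  rw [sw_inv]
  ext v : 1
  rfl

theorem mem_of_second {w : V ≃ₗ[ZMod 3] V} (hw : w ∈ O Qf) (h2 : ∀ X, w (X, 0) = (X, 0))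
    (h1 : ∀ Y, w (w (0, Y)) = (0, -Y)) : w ∈ QV := by
  have h3 : sw * w * sw⁻¹ ∈ QV := by
    refine mem_of_first (mul_mem (mul_mem sw_mem hw) (inv_mem sw_mem)) ?_ ?_
    · intro Y
      rw [sw_inv]
      change sw (w (sw (0, Y))) = _
      rw [sw_apply (0, Y), h2, sw_apply]
    · intro X
      rw [sw_inv]
      change sw (w (sw (sw (w (sw (X, 0)))))) = _
      rw [show ∀ v, sw (sw v) = v from fun v => rfl, sw_apply (X, 0), h1, sw_apply]
  have h4 := sw_conj h3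
  rw [sw_inv] at h4
  have h5 : sw * (sw * w * sw) * sw = w := by
    calc sw * (sw * w * sw) * sw = (sw * sw) * w * (sw * sw) := by group
      _ = w := by rw [sw_mul, one_mul, mul_one]
  rwa [h5] at h4

/-- `z` -/
def zz : V ≃ₗ[ZMod 3] V := Phi ((mk8 (-1) (Or.inr (Or.inl rfl)), 1), 1)

theorem zz_apply (v : V) : zz v = (-v.1, v.2) := by
  rw [zz, phi_first, inv_one, Matrix.SpecialLinearGroup.coe_one, mul_one]
  apply Prod.ext
  · change (-1 : M2) * v.1 = -v.1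
    rw [neg_mul, one_mul]
  · rfl

theorem zz_mem : zz ∈ QV := first_mem (mk8_mem _) Q8.one_mem

theorem zz_mul : zz * zz = 1 := by
  ext v : 1
  change zz (zz v) = v
  rw [zz_apply (zz v), zz_apply v, neg_neg]

/-- block diagonal maps -/
theorem diag_of_comm {g : V ≃ₗ[ZMod 3] V} (hz : ∀ v, g (zz v) = zz (g v)) :
    (∀ X, (g (X, 0)).2 = 0) ∧ ∀ Y, (g (0, Y)).1 = 0 := by
  constructor
  · intro X
    have e1 := hz (X, 0)
    rw [zz_apply, zz_apply] at e1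
    have e2 : ((-(X, 0).1, (X, 0).2) : V) = -(X, 0) := by simp
    rw [e2, map_neg] at e1
    exact eq_zero_of_neg (congrArg Prod.snd e1).symm
  · intro Y
    have e1 := hz (0, Y)
    rw [zz_apply, zz_apply] at e1
    have e2 : ((-((0 : M2), Y).1, ((0 : M2), Y).2) : V) = (0, Y) := by simp
    rw [e2] at e1
    exact eq_zero_of_neg (congrArg Prod.fst e1)

theorem conj_first {g : V ≃ₗ[ZMod 3] V} (hg : g ∈ O Qf) (hz : ∀ v, g (zz v) = zz (g v)) {w : V ≃ₗ[ZMod 3] V}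
    (hw : w ∈ O Qf) (h2 : ∀ Y, w (0, Y) = (0, Y)) (h1 : ∀ X, w (w (X, 0)) = (-X, 0)) : g * w * g⁻¹ ∈ QV := by
  have hz' : ∀ v, g⁻¹ (zz v) = zz (g⁻¹ v) := by
    intro v
    apply g.injective
    change (g * g⁻¹) (zz v) = g (zz (g⁻¹ v))
    rw [hz]
    change (g * g⁻¹) (zz v) = zz ((g * g⁻¹) v)
    rw [mul_inv_cancel]
    rfl
  obtain ⟨d1, d2⟩ := diag_of_comm hz'
  refine mem_of_first (mul_mem (mul_mem hg hw) (inv_mem hg)) ?_ ?_
  · intro Y
    change g (w (g⁻¹ (0, Y))) = (0, Y)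
    have e1 : g⁻¹ (0, Y) = (0, (g⁻¹ (0, Y)).2) := Prod.ext (d2 Y) rfl
    rw [e1, h2, ← e1]
    change (g * g⁻¹) (0, Y) = (0, Y)
    rw [mul_inv_cancel]
    rfl
  · intro X
    change g (w ((g⁻¹ * g) (w (g⁻¹ (X, 0))))) = (-X, 0)
    rw [inv_mul_cancel]
    change g (w (w (g⁻¹ (X, 0)))) = (-X, 0)
    have e1 : g⁻¹ (X, 0) = ((g⁻¹ (X, 0)).1, 0) := Prod.ext rfl (d1 X)
    have e2 : ((-(g⁻¹ (X, 0)).1, 0) : V) = -((g⁻¹ (X, 0)).1, 0) := by simp
    rw [e1, h1, e2, ← e1, map_neg]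
    change -((g * g⁻¹) (X, 0)) = (-X, 0)
    rw [mul_inv_cancel]
    change -(X, 0) = (-X, 0)
    simp

theorem conj_second {g : V ≃ₗ[ZMod 3] V} (hg : g ∈ O Qf) (hz : ∀ v, g (zz v) = zz (g v)) {w : V ≃ₗ[ZMod 3] V}
    (hw : w ∈ O Qf) (h2 : ∀ X, w (X, 0) = (X, 0)) (h1 : ∀ Y, w (w (0, Y)) = (0, -Y)) : g * w * g⁻¹ ∈ QV := by
  have hz' : ∀ v, g⁻¹ (zz v) = zz (g⁻¹ v) := by
    intro v
    apply g.injective
    change (g * g⁻¹) (zz v) = g (zz (g⁻¹ v))
    rw [hz]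
    change (g * g⁻¹) (zz v) = zz ((g * g⁻¹) v)
    rw [mul_inv_cancel]
    rfl
  obtain ⟨d1, d2⟩ := diag_of_comm hz'
  refine mem_of_second (mul_mem (mul_mem hg hw) (inv_mem hg)) ?_ ?_
  · intro X
    change g (w (g⁻¹ (X, 0))) = (X, 0)
    have e1 : g⁻¹ (X, 0) = ((g⁻¹ (X, 0)).1, 0) := Prod.ext rfl (d1 X)
    rw [e1, h2, ← e1]
    change (g * g⁻¹) (X, 0) = (X, 0)
    rw [mul_inv_cancel]
    rfl
  · intro Y
    change g (w ((g⁻¹ * g) (w (g⁻¹ (0, Y))))) = (0, -Y)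
    rw [inv_mul_cancel]
    change g (w (w (g⁻¹ (0, Y)))) = (0, -Y)
    have e1 : g⁻¹ (0, Y) = (0, (g⁻¹ (0, Y)).2) := Prod.ext (d2 Y) rfl
    have e2 : ((0, -(g⁻¹ (0, Y)).2) : V) = -(0, (g⁻¹ (0, Y)).2) := by simp
    rw [e1, h1, e2, ← e1, map_neg]
    change -((g * g⁻¹) (0, Y)) = (0, -Y)
    rw [mul_inv_cancel]
    change -((0 : M2), Y) = (0, -Y)
    simp

/-- a subgroup containing the elements of square `-1` contains the quaternion group -/
theorem le_of_sq {H : Subgroup S2} (h : ∀ A : S2, (A : M2) * (A : M2) = -1 → A ∈ H) : Q8 ≤ H := by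
  intro A hA
  rcases hA with h1 | h1 | h1
  · have : A = 1 := Subtype.ext h1
    rw [this]
    exact H.one_mem
  · have hi : mk8 ii q8_ii ∈ H := h _ (by change ii * ii = -1; decide +kernel)
    have : A = mk8 ii q8_ii * mk8 ii q8_ii := by
      apply Subtype.ext
      change (A : M2) = ((mk8 ii q8_ii * mk8 ii q8_ii : S2) : M2)
      rw [Matrix.SpecialLinearGroup.coe_mul, h1]
      change (-1 : M2) = ii * ii
      decide +kernel
    rw [this]
    exact H.mul_mem hi hi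
  · exact h A h1

theorem sq_inv {B : S2} (hB : (B : M2) * (B : M2) = -1) : ((B⁻¹ : S2) : M2) * ((B⁻¹ : S2) : M2) = -1 := by
  have h1 : B⁻¹ = -B := by
    rw [inv_eq_iff_mul_eq_one]
    apply Subtype.ext
    change ((B * -B : S2) : M2) = 1
    rw [Matrix.SpecialLinearGroup.coe_mul, Matrix.SpecialLinearGroup.coe_neg, mul_neg, hB, neg_neg]
  rw [h1, Matrix.SpecialLinearGroup.coe_neg, neg_mul_neg, hB]

/-- **the centralizer of `z` normalizes `Q`** -/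
theorem conj_plus {g : V ≃ₗ[ZMod 3] V} (hg : g ∈ O Qf) (hz : ∀ v, g (zz v) = zz (g v)) {w : V ≃ₗ[ZMod 3] V}
    (hw : w ∈ QV) : g * w * g⁻¹ ∈ QV := by
  let N : Subgroup P4 := (QV.comap (MulAut.conj g).toMonoidHom).comap Phi
  have hN : ∀ p : P4, p ∈ N ↔ g * Phi p * g⁻¹ ∈ QV := fun p => Iff.rfl
  let i1 : S2 →* P4 := (MonoidHom.inl (S2 × S2) (S2 × S2)).comp (MonoidHom.inl S2 S2)
  let i2 : S2 →* P4 := (MonoidHom.inl (S2 × S2) (S2 × S2)).comp (MonoidHom.inr S2 S2)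
  let i3 : S2 →* P4 := (MonoidHom.inr (S2 × S2) (S2 × S2)).comp (MonoidHom.inl S2 S2)
  let i4 : S2 →* P4 := (MonoidHom.inr (S2 × S2) (S2 × S2)).comp (MonoidHom.inr S2 S2)
  have h1 : Q8 ≤ N.comap i1 := le_of_sq fun A hA => by
    refine conj_first hg hz (Phi_mem_O _) ?_ ?_
    · intro Y
      change Phi ((A, 1), 1) (0, Y) = (0, Y)
      rw [phi_first]
      simp
    · intro X
      change Phi ((A, 1), 1) (Phi ((A, 1), 1) (X, 0)) = (-X, 0)
      rw [phi_first, phi_first, inv_one, Matrix.SpecialLinearGroup.coe_one]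
      simp only [mul_one]
      rw [← mul_assoc, hA, neg_mul, one_mul]
  have h2 : Q8 ≤ N.comap i2 := le_of_sq fun A hA => by
    refine conj_first hg hz (Phi_mem_O _) ?_ ?_
    · intro Y
      change Phi ((1, A), 1) (0, Y) = (0, Y)
      rw [phi_first]
      simp
    · intro X
      change Phi ((1, A), 1) (Phi ((1, A), 1) (X, 0)) = (-X, 0)
      rw [phi_first, phi_first, Matrix.SpecialLinearGroup.coe_one]
      simp only [one_mul]
      rw [mul_assoc, sq_inv hA, mul_neg, mul_one]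
  have h3 : Q8 ≤ N.comap i3 := le_of_sq fun A hA => by
    refine conj_second hg hz (Phi_mem_O _) ?_ ?_
    · intro X
      change Phi (1, (A, 1)) (X, 0) = (X, 0)
      rw [phi_second]
      simp
    · intro Y
      change Phi (1, (A, 1)) (Phi (1, (A, 1)) (0, Y)) = (0, -Y)
      rw [phi_second, phi_second, inv_one, Matrix.SpecialLinearGroup.coe_one]
      simp only [mul_one]
      rw [← mul_assoc, hA, neg_mul, one_mul]
  have h4 : Q8 ≤ N.comap i4 := le_of_sq fun A hA => by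
    refine conj_second hg hz (Phi_mem_O _) ?_ ?_
    · intro X
      change Phi (1, (1, A)) (X, 0) = (X, 0)
      rw [phi_second]
      simp
    · intro Y
      change Phi (1, (1, A)) (Phi (1, (1, A)) (0, Y)) = (0, -Y)
      rw [phi_second, phi_second, Matrix.SpecialLinearGroup.coe_one]
      simp only [one_mul]
      rw [mul_assoc, sq_inv hA, mul_neg, mul_one]
  obtain ⟨p, ⟨⟨e1, e2⟩, ⟨e3, e4⟩⟩, rfl⟩ := hw
  rw [← hN]
  have e : p = i1 p.1.1 * i2 p.1.2 * (i3 p.2.1 * i4 p.2.2) := by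
    simp [i1, i2, i3, i4]
  rw [e]
  exact N.mul_mem (N.mul_mem (h1 e1) (h2 e2)) (N.mul_mem (h3 e3) (h4 e4))

theorem conj_mem {g : V ≃ₗ[ZMod 3] V} (hg : g ∈ O Qf) (hz : (∀ v, g (zz v) = zz (g v)) ∨ (∀ v, g (zz v) = -zz (g v)))
    {w : V ≃ₗ[ZMod 3] V} (hw : w ∈ QV) : g * w * g⁻¹ ∈ QV := by
  rcases hz with hz | hz
  · exact conj_plus hg hz hw
  · have h1 : (sw * g) * w * (sw * g)⁻¹ ∈ QV := by
      refine conj_plus (mul_mem sw_mem hg) (fun v => ?_) hw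
      change sw (g (zz v)) = zz (sw (g v))
      rw [hz, zz_apply, zz_apply, sw_apply, sw_apply]
      simp
    have h2 := sw_conj h1
    have h3 : sw * (sw * g * w * (sw * g)⁻¹) * sw⁻¹ = g * w * g⁻¹ := by
      rw [_root_.mul_inv_rev, sw_inv]
      calc sw * (sw * g * w * (g⁻¹ * sw)) * sw = (sw * sw) * g * w * g⁻¹ * (sw * sw) := by group
        _ = _ := by rw [sw_mul]; group
    rwa [h3] at h2

end Cfsg.Agent.H981.OEight
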