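import Mathlib
import Cfsg.Agent.H981.OEightMid

/-!
# `PΩ₈⁺(3)` is of even characteristic (helper981)

`V = M₂(3) × M₂(3)` with the form `det X + det Y`. `Q` is the group of the maps `(X, Y) ↦ (A X B⁻¹, C Y D⁻¹)` with
`A, B, C, D` in the quaternion group of `SL₂(3)`, and `z : (X, Y) ↦ (-X, Y)`.
-/

set_option autoImplicit false

namespace Cfsg.Agent.H981.OEight

open Matrix Cfsg QuadraticMap Cfsg.Agent.LieClassical.OrthCore Cfsg.Agent.OddHalf.NI3.Bad.Sim

/-- commuting up to sign -/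
def Cs (g w : V ≃ₗ[ZMod 3] V) : Prop := (∀ v, g (w v) = w (g v)) ∨ ∀ v, g (w v) = -w (g v)

theorem plus_first {g w : V ≃ₗ[ZMod 3] V} {h : M2 → M2} (hw : ∀ v, w v = (h v.1, v.2)) (h0 : h 0 = 0)
    (hn : ∀ X, h (-X) = - h X) (hh : ∀ X, h (h X) = -X) (hc : Cs g w) : ∀ v, g (w v) = w (g v) := by
  rcases hc with hc | hc
  · exact hc
  · exfalso
    have h1 : g (0, 1) = 0 := by
      have e1 := hc (0, 1)
      rw [hw (0, 1), hw] at e1
      change g (h 0, 1) = _ at e1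
      rw [h0] at e1
      have e2 : (g (0, 1)).2 = 0 := eq_zero_of_neg (congrArg Prod.snd e1)
      have e3 : (g (0, 1)).1 = -h (g (0, 1)).1 := congrArg Prod.fst e1
      have e4 : (g (0, 1)).1 = 0 := by
        apply eq_zero_of_neg
        conv_lhs => rw [e3, e3]
        rw [hn, neg_neg, hh]
      exact Prod.ext e4 e2
    have h2 := g.injective (h1.trans (map_zero g).symm)
    exact one_ne_zero (congrArg Prod.snd h2)

theorem diag_first {g w : V ≃ₗ[ZMod 3] V} {h : M2 → M2} (hw : ∀ v, w v = (h v.1, v.2)) (h0 : h 0 = 0)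
    (hh : ∀ X, h (h X) = -X) (hc : ∀ v, g (w v) = w (g v)) :
    (∀ X, (g (X, 0)).2 = 0) ∧ (∀ Y, (g (0, Y)).1 = 0) ∧ ∀ X, (g (h X, 0)).1 = h (g (X, 0)).1 := by
  refine ⟨fun X => ?_, fun Y => ?_, fun X => ?_⟩
  · have e : ∀ X, (g (h X, 0)).2 = (g (X, 0)).2 := by
      intro X
      have e1 := hc (X, 0)
      rw [hw (X, 0), hw] at e1
      have e3 := congrArg Prod.snd e1
      exact e3
    have e2 : ((-X, 0) : V) = -(X, 0) := by simp
    have e4 : (g (-X, 0)).2 = (g (X, 0)).2 :=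
      (congrArg (fun Z => (g (Z, 0)).2) (hh X)).symm.trans ((e (h X)).trans (e X))
    have e5 : (g (-X, 0)).2 = -(g (X, 0)).2 := by
      rw [e2, map_neg]
      rfl
    exact eq_zero_of_neg (e4.symm.trans e5)
  · have e1 := hc (0, Y)
    rw [hw (0, Y), hw] at e1
    change g (h 0, Y) = _ at e1
    rw [h0] at e1
    have e2 : (g (0, Y)).1 = h (g (0, Y)).1 := congrArg Prod.fst e1
    apply eq_zero_of_neg
    conv_lhs => rw [e2, e2, hh]
  · have e1 := hc (X, 0)
    rw [hw (X, 0), hw] at e1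
    exact congrArg Prod.fst e1

/-- a bimodule map is a scalar -/
theorem scalar_of {α : M2 →ₗ[ZMod 3] M2} (h1 : ∀ X, α (ii * X) = ii * α X) (h2 : ∀ X, α (jj * X) = jj * α X)
    (h3 : ∀ X, α (X * ii) = α X * ii) (h4 : ∀ X, α (X * jj) = α X * jj) (h0 : α 1 ≠ 0) :
    (∀ X, α X = X) ∨ (∀ X, α X = -X) := by
  have e : ∀ X, α X = X * α 1 := by
    intro X
    obtain ⟨a, b, c, d, hX⟩ := span X
    have e1 : α ii = ii * α 1 := by have := h1 1; rwa [mul_one] at this
    have e2 : α jj = jj * α 1 := by have := h2 1; rwa [mul_one] at this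
    have e3 : α (ii * jj) = ii * jj * α 1 := by rw [h1, e2, mul_assoc]
    rw [hX]
    simp only [map_add, map_smul, e1, e2, e3, add_mul, smul_mul_assoc, one_mul]
  have e1 : α 1 * ii = ii * α 1 := by
    rw [← h3 1, one_mul]
    exact e ii
  have e2 : α 1 * jj = jj * α 1 := by
    rw [← h4 1, one_mul]
    exact e jj
  rcases comm_scalar _ e1 e2 with h | h | h
  · exact absurd h h0
  · left
    intro X
    rw [e, h, mul_one]
  · right
    intro X
    rw [e, h, mul_neg, mul_one]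

theorem ii_sq : ii * ii = -1 := by decide +kernel

theorem jj_sq : jj * jj = -1 := by decide +kernel

theorem w_left {A : M2} (hA : q8 A) (v : V) : Phi ((mk8 A hA, 1), 1) v = (A * v.1, v.2) := by
  rw [phi_first, inv_one, Matrix.SpecialLinearGroup.coe_one, mul_one]
  rfl

theorem w_right {A : M2} (hA : q8 A) (v : V) : Phi ((1, (mk8 A hA)⁻¹), 1) v = (v.1 * A, v.2) := by
  rw [phi_first, inv_inv, Matrix.SpecialLinearGroup.coe_one, one_mul]
  rfl

/-- the action of an element commuting with `Q` up to sign, on the first summand -/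
theorem first_scalar {g : V ≃ₗ[ZMod 3] V} (hc : ∀ w ∈ QV, Cs g w) :
    (∀ X, (g (X, 0)).2 = 0) ∧ (∀ Y, (g (0, Y)).1 = 0) ∧
      ((∀ X, (g (X, 0)).1 = X) ∨ ∀ X, (g (X, 0)).1 = -X) := by
  have L : ∀ A : M2, ∀ hA : q8 A, A * A = -1 → (∀ X, (g (X, 0)).2 = 0) ∧ (∀ Y, (g (0, Y)).1 = 0) ∧
      ∀ X, (g (A * X, 0)).1 = A * (g (X, 0)).1 := by
    intro A hA hAA
    have hh : ∀ X : M2, A * (A * X) = -X := fun X => by rw [← mul_assoc, hAA, neg_mul, one_mul]
    exact diag_first (w_left hA) (mul_zero A) hh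
      (plus_first (w_left hA) (mul_zero A) (fun X => mul_neg A X) hh (hc _ (first_mem (mk8_mem hA) Q8.one_mem)))
  have R : ∀ A : M2, ∀ hA : q8 A, A * A = -1 → ∀ X, (g (X * A, 0)).1 = (g (X, 0)).1 * A := by
    intro A hA hAA
    have hh : ∀ X : M2, X * A * A = -X := fun X => by rw [mul_assoc, hAA, mul_neg, mul_one]
    exact (diag_first (h := fun X => X * A) (w_right hA) (zero_mul A) hh
      (plus_first (h := fun X => X * A) (w_right hA) (zero_mul A) (fun X => neg_mul X A) hh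
        (hc _ (first_mem Q8.one_mem (Q8.inv_mem (mk8_mem hA)))))).2.2
  obtain ⟨d1, d2, l1⟩ := L ii q8_ii ii_sq
  obtain ⟨-, -, l2⟩ := L jj q8_jj jj_sq
  have r1 := R ii q8_ii ii_sq
  have r2 := R jj q8_jj jj_sq
  refine ⟨d1, d2, ?_⟩
  let α : M2 →ₗ[ZMod 3] M2 := (LinearMap.fst (ZMod 3) M2 M2).comp ((g : V →ₗ[ZMod 3] V).comp (LinearMap.inl (ZMod 3) M2 M2))
  refine scalar_of (α := α) l1 l2 r1 r2 ?_
  intro h
  have h1 : g (1, 0) = 0 := Prod.ext h (d1 1)
  have h2 := g.injective (h1.trans (map_zero g).symm)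
  exact one_ne_zero (congrArg Prod.fst h2)

theorem sw_cs {g w : V ≃ₗ[ZMod 3] V} (h : Cs g w) : Cs (sw * g * sw⁻¹) (sw * w * sw⁻¹) := by
  rw [sw_inv]
  rcases h with h | h
  · left
    intro v
    change sw (g (sw (sw (w (sw v))))) = sw (w (sw (sw (g (sw v)))))
    rw [show ∀ v, sw (sw v) = v from fun v => rfl, h, show ∀ v, sw (sw v) = v from fun v => rfl]
  · right
    intro v
    change sw (g (sw (sw (w (sw v))))) = -sw (w (sw (sw (g (sw v)))))
    rw [show ∀ v, sw (sw v) = v from fun v => rfl, h, show ∀ v, sw (sw v) = v from fun v => rfl, map_neg]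

/-- **the centralizer of `Q`** -/
theorem eq_of_comm {g : V ≃ₗ[ZMod 3] V} (hc : ∀ w ∈ QV, Cs g w) :
    (∀ v, g v = v) ∨ (∀ v, g v = -v) ∨ (∀ v, g v = zz v) ∨ (∀ v, g v = -zz v) := by
  obtain ⟨d1, d2, hX⟩ := first_scalar hc
  have hc' : ∀ w ∈ QV, Cs (sw * g * sw⁻¹) w := by
    intro w hw
    have h1 := sw_cs (hc _ (sw_conj hw))
    have h2 : sw * (sw * w * sw⁻¹) * sw⁻¹ = w := by
      rw [sw_inv]
      calc sw * (sw * w * sw) * sw = (sw * sw) * w * (sw * sw) := by group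
        _ = w := by rw [sw_mul, one_mul, mul_one]
    rwa [h2] at h1
  obtain ⟨-, -, hY⟩ := first_scalar hc'
  rw [sw_inv] at hY
  have hY' : (∀ Y, (g (0, Y)).2 = Y) ∨ ∀ Y, (g (0, Y)).2 = -Y := hY
  have hv : ∀ v : V, g v = ((g (v.1, 0)).1, (g (0, v.2)).2) := by
    intro v
    have e1 : v = (v.1, 0) + (0, v.2) := by simp
    have e2 : g v = g (v.1, 0) + g (0, v.2) := by
      rw [← map_add, ← e1]
    rw [e2]
    apply Prod.ext
    · rw [Prod.fst_add, d2, add_zero]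
    · rw [Prod.snd_add, d1, zero_add]
  rcases hX with hX | hX <;> rcases hY' with hY | hY
  · left
    intro v
    rw [hv, hX, hY]
  · right; right; right
    intro v
    rw [hv, hX, hY, zz_apply]
    simp
  · right; right; left
    intro v
    rw [hv, hX, hY, zz_apply]
  · right; left
    intro v
    rw [hv, hX, hY]
    rfl

/-! ### the quotient -/

/-- `PΩ₈⁺(3)` -/
abbrev G : Type := Om Qf ⧸ Subgroup.center (Om Qf)

instance : Finite G := CharThree.finite_G (Q := Qf)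

theorem center_cases {c : Om Qf} (hc : c ∈ Subgroup.center (Om Qf)) :
    (∀ v, (c : V ≃ₗ[ZMod 3] V) v = v) ∨ ∀ v, (c : V ≃ₗ[ZMod 3] V) v = -v := by
  rcases CharThree.center_cases (F := ZMod 3) (ZMod.card 3) nondeg (by rw [finrank_V]; norm_num) hc with h | h
  · left
    intro v
    rw [h]
    rfl
  · right
    intro v
    rw [h]
    rfl

theorem cs_of_comm {g w : Om Qf} (h : (g : G) * (w : G) = (w : G) * (g : G)) :
    Cs (g : V ≃ₗ[ZMod 3] V) (w : V ≃ₗ[ZMod 3] V) := by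
  have h1 : (w * g)⁻¹ * (g * w) ∈ Subgroup.center (Om Qf) := QuotientGroup.eq.1 h.symm
  have h2 : g * w = w * g * ((w * g)⁻¹ * (g * w)) := by group
  have h4 : ∀ v, (g : V ≃ₗ[ZMod 3] V) ((w : V ≃ₗ[ZMod 3] V) v) =
      (w : V ≃ₗ[ZMod 3] V) ((g : V ≃ₗ[ZMod 3] V) ((((w * g)⁻¹ * (g * w) : Om Qf) : V ≃ₗ[ZMod 3] V) v)) :=
    fun v => congrArg (fun x : Om Qf => (x : V ≃ₗ[ZMod 3] V) v) h2
  rcases center_cases h1 with h3 | h3
  · left
    intro v
    rw [h4, h3]
  · right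
    intro v
    rw [h4, h3, map_neg, map_neg]

/-- the element `z` -/
def z0 : Om Qf := ⟨zz, QV_le zz_mem⟩

/-- the group `Q` -/
def QG : Subgroup G := (QV.subgroupOf (Om Qf)).map (QuotientGroup.mk' (Subgroup.center (Om Qf)))

theorem mem_QG {x : G} : x ∈ QG ↔ ∃ w : Om Qf, (w : V ≃ₗ[ZMod 3] V) ∈ QV ∧ (w : G) = x := Iff.rfl

theorem isPGroup_QG : IsPGroup 2 QG :=
  (isPGroup_QV.comap_of_injective _ (Subgroup.subtype_injective _)).map _

theorem eq_of_comm_QG {a : G} (h : ∀ x ∈ QG, x * a = a * x) : a = 1 ∨ a = (z0 : G) := by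
  obtain ⟨g, rfl⟩ := QuotientGroup.mk'_surjective _ a
  have hc : ∀ w ∈ QV, Cs (g : V ≃ₗ[ZMod 3] V) w := by
    intro w hw
    exact cs_of_comm (w := ⟨w, QV_le hw⟩) (h _ (mem_QG.2 ⟨⟨w, QV_le hw⟩, hw, rfl⟩)).symm
  have hneg : ∀ c : Om Qf, (∀ v, (c : V ≃ₗ[ZMod 3] V) v = -v) → c ∈ Subgroup.center (Om Qf) := by
    intro c hcv
    rw [Subgroup.mem_center_iff]
    intro x
    apply Subtype.ext
    ext v : 1
    change (x : V ≃ₗ[ZMod 3] V) ((c : V ≃ₗ[ZMod 3] V) v) = (c : V ≃ₗ[ZMod 3] V) ((x : V ≃ₗ[ZMod 3] V) v)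
    rw [hcv, hcv, map_neg]
  rcases eq_of_comm hc with h1 | h1 | h1 | h1
  · left
    have : g = 1 := Subtype.ext (LinearEquiv.ext h1)
    rw [this, map_one]
  · left
    exact (QuotientGroup.eq_one_iff g).2 (hneg g h1)
  · right
    have : g = z0 := Subtype.ext (LinearEquiv.ext h1)
    rw [this]
    rfl
  · right
    refine (QuotientGroup.eq.2 ?_).symm
    refine hneg _ fun v => ?_
    have h2 : z0⁻¹ = z0 := by
      rw [inv_eq_iff_mul_eq_one]
      exact Subtype.ext zz_mul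
    rw [h2]
    change zz ((g : V ≃ₗ[ZMod 3] V) v) = -v
    rw [h1, map_neg]
    exact congrArg Neg.neg (LinearEquiv.congr_fun zz_mul v)

theorem conj_QG {a : G} (ha : a * (z0 : G) = (z0 : G) * a) {x : G} (hx : x ∈ QG) : a * x * a⁻¹ ∈ QG := by
  obtain ⟨g, rfl⟩ := QuotientGroup.mk'_surjective _ a
  obtain ⟨w, hw, rfl⟩ := mem_QG.1 hx
  refine mem_QG.2 ⟨g * w * g⁻¹, ?_, rfl⟩
  refine conj_mem ?_ (cs_of_comm (w := z0) ha) hw
  have h1 : Om Qf ≤ O Qf := Subgroup.commutator_le.2 fun a ha b hb => by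
    rw [commutatorElement_def]
    exact mul_mem (mul_mem (mul_mem ha hb) (inv_mem ha)) (inv_mem hb)
  exact h1 g.2

theorem even : IsOfEvenCharacteristic G := by
  have hf : Fact (Nat.Prime 2) := ⟨Nat.prime_two⟩
  obtain ⟨S, hS⟩ := isPGroup_QG.exists_le_sylow
  refine Omega.Quasithin.EvenOf.even_of_center (z := (z0 : G)) isPGroup_QG (fun g hg x hx => conj_QG hg hx) ?_
    ⟨S, fun a ha => eq_of_comm_QG fun x hx => ha x (hS hx)⟩
  intro g _ hg
  rcases eq_of_comm_QG fun x hx => (hg x hx).symm with h | h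
  · rw [h]
    exact QG.one_mem
  · rw [h]
    exact mem_QG.2 ⟨z0, zz_mem, rfl⟩

/-- **`PΩ₈⁺(3)` is of even characteristic.** -/
theorem even_omega {H : Type*} [Group H] [Finite H] {F : Type} [Field F] [Fintype F] (hF : Fintype.card F = 3)
    (e : H ≃* POmega F (quadFormPlus 4 F)) : IsOfEvenCharacteristic H := by
  have σ : F ≃+* ZMod 3 := (ZMod.ringEquivOfPrime F (by norm_num) hF).symm
  obtain ⟨e1⟩ := UGT.U2.Rec.Congr.nonempty_POmega σ (Q := quadFormPlus 4 F) (Q' := quadFormPlus 4 (ZMod 3)) (by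
    intro v
    simp [quadFormPlus, map_sum, map_mul])
  obtain ⟨e2⟩ := sml.pomega
  rw [LieClassical.OrthForms.coe_plusForm] at e2
  exact Omega.Quasithin.EvenOf.even_of_equiv ((e.trans e1).trans e2.symm) even

end Cfsg.Agent.H981.OEight
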