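import Cfsg.Agent.H537.CopDefs
import Cfsg.Agent.H574.RowTh

/-!
# The elements of order 19 of the Thompson group generate their own centralisers (helper981)
-/

set_option autoImplicit false

namespace Cfsg.Agent.H981.SCTh

open Subgroup Cfsg

/-- the criterion -/
theorem sc_of {p : ℕ} (hp : p.Prime) {T : Type*} [Group T] [Finite T] (h2 : ¬ p * p ∣ Nat.card T)
    (h : ∀ r : ℕ, r.Prime → r ≠ p → ∀ x y : T, orderOf x = p → orderOf y = r → x * y ≠ y * x) :
    H537.Cop.SC p T := by
  intro x hx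
  have hne : Nat.card (centralizer ({x} : Set T)) ≠ 0 := Nat.card_pos.ne'
  have h1 : p ∣ Nat.card (centralizer ({x} : Set T)) := by
    have h3 := orderOf_dvd_natCard (⟨x, mem_centralizer_singleton_iff.2 rfl⟩ : centralizer ({x} : Set T))
    rwa [Subgroup.orderOf_mk, hx] at h3
  obtain ⟨k, hk⟩ := h1
  have hk1 : k = 1 := by
    by_contra hk1
    obtain ⟨r, hr, hrk⟩ := Nat.exists_prime_and_dvd hk1
    by_cases hrp : r = p
    · apply h2
      rw [hrp] at hrk
      exact (Nat.mul_dvd_mul_left p hrk).trans (hk ▸ card_subgroup_dvd_card _)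
    · have : Fact r.Prime := ⟨hr⟩
      obtain ⟨y, hy⟩ := exists_prime_orderOf_dvd_card' (G := centralizer ({x} : Set T)) r
        (hrk.trans (hk ▸ Dvd.intro_left p rfl))
      exact h r hr hrp x y hx (by rw [orderOf_coe, hy]) (mem_centralizer_singleton_iff.1 y.2).symm
  rw [hk, hk1, mul_one]

/-- **`Th`, `p = 19`.** -/
theorem sc_th : H537.Cop.SC 19 Spor.Th := by
  have hfin : Finite Spor.Th := KFacts.Th.Main.finite
  have hcard : Nat.card Spor.Th = 90745943887872000 := KFacts.Th.Main.ctx.card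
  refine sc_of (by norm_num) (by rw [hcard]; norm_num) fun r hr hr19 x y hx hy hxy => ?_
  refine H574.RowTh.th_nineteen (x := y) ?_ ?_ ?_
  · rintro rfl
    rw [orderOf_one] at hy
    exact hr.one_lt.ne hy
  · rw [hy]
    intro h
    exact hr19 ((Nat.prime_dvd_prime_iff_eq (by norm_num) hr).1 h).symm
  · have h3 := orderOf_dvd_natCard (⟨x, mem_centralizer_singleton_iff.2 hxy⟩ : centralizer ({y} : Set Spor.Th))
    rwa [Subgroup.orderOf_mk, hx] at h3

end Cfsg.Agent.H981.SCTh
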