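import Cfsg.Agent.H241.NHTools
import Cfsg.Agent.H393.Iso.J1
import Cfsg.Agent.H393.Iso.J23
import Cfsg.Agent.H724.IMJThree
import Cfsg.Agent.H898.J3Cent
import Cfsg.Agent.J2Type.ThreeF
import Cfsg.Agent.NotCT.Orders

/-!
# Rows of the nilpotent Hall cluster: `J₁`, `J₂`, `J₃` (helper981, for helper241)
-/

set_option autoImplicit false
open Cfsg Subgroup

namespace Cfsg.Agent.H981.NH

open Cfsg.Agent.H630.NH Cfsg.Agent.H241.NH Cfsg.Agent.H393.Iso

universe u

theorem na_j1_model [Finite Spor.J1] {r : ℕ} (hr : ¬ r ∣ 120) : NA r Spor.J1 :=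
  NA.of_card fun t ht => by
    rw [SporRec.J1.EqTopC.card_cent2 H413.JOneLocal.isLocal t ht]
    exact hr

theorem na_j1' {G : Type*} [Group G] [Finite G] (h : Spor.IsoJ1 G) {r : ℕ} (hr : ¬ r ∣ 120) : NA r G :=
  h.elim fun e =>
    have := Finite.of_equiv G e.toEquiv
    (na_j1_model hr).of_equiv e.symm

theorem row_j1 {G : Type*} [Group G] [Finite G] [IsSimpleGroup G] (h : Spor.IsoJ1 G) : Row G := by
  have hN := NotCT.Orders.j1 h
  refine row_of (N := 175560) (k := 3) hN [3, 5, 7, 11, 19] [] [7, 11, 19] 3 [] ?_ ?_ ?_ ?_ ?_ ?_ ?_ ?_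
  · decide
  · decide
  · decide
  · exact ab_of_not_cube (by norm_num) (by rw [hN]; norm_num)
  · intro p hp; exact absurd hp (by simp)
  · intro r hr
    simp only [List.mem_cons, List.not_mem_nil, or_false] at hr
    rcases hr with rfl | rfl | rfl
    · exact solv_of_na (by norm_num) (by rw [hN]; norm_num) (na_j1' h (by norm_num))
    · exact solv_of_na (by norm_num) (by rw [hN]; norm_num) (na_j1' h (by norm_num))
    · exact solv_of_na (by norm_num) (by rw [hN]; norm_num) (na_j1' h (by norm_num))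
  · intro a ha; exact absurd ha (by simp)
  · decide

theorem row_j2 {G : Type*} [Group G] [Finite G] [IsSimpleGroup G] (h : Spor.IsoJ2 G) : Row G := by
  have hN := NotCT.Orders.j2 h
  obtain ⟨t, u, Q, v, ρ, D⟩ := Cfsg.Agent.KFacts.J2.Facts.exists_dat_of h
  obtain ⟨a, b, -, hb, -, hcb, -, -⟩ := Cfsg.Agent.J2Type.ThreeF.main D.F
  refine row_of (N := 604800) (k := 7) hN [3, 5, 7] [3] [] 5 [] ?_ ?_ ?_ ?_ ?_ ?_ ?_ ?_
  · decide
  · decide
  · decide
  · exact ab_of_not_cube (by norm_num) (by rw [hN]; norm_num)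
  · intro p hp q hq hpq
    obtain rfl := List.mem_singleton.1 hp
    simp only [List.mem_cons, List.not_mem_nil, or_false] at hq
    rcases hq with rfl | rfl | rfl
    · exact absurd rfl hpq
    · exact nc_of_card (a := 1) (by norm_num) (by norm_num) ⟨1, by rw [hb, pow_one]⟩ (by rw [hN]; norm_num)
        (by rw [hcb]; norm_num)
    · exact nc_of_card (a := 1) (by norm_num) (by norm_num) ⟨1, by rw [hb, pow_one]⟩ (by rw [hN]; norm_num)
        (by rw [hcb]; norm_num)
  · intro r hr; exact absurd hr (by simp)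
  · intro a ha; exact absurd ha (by simp)
  · decide

theorem row_j3 {G : Type u} [Group G] [Finite G] [IsSimpleGroup G] (h : Spor.IsoJ3 G) : Row G := by
  have hN := NotCT.Orders.j3 h
  have h17 : Fact (Nat.Prime 17) := ⟨by norm_num⟩
  have h19 : Fact (Nat.Prime 19) := ⟨by norm_num⟩
  refine row_of (N := 50232960) (k := 7) hN [3, 5, 17, 19] [3] [19] 5 [] ?_ ?_ ?_ ?_ ?_ ?_ ?_ ?_
  · decide
  · decide
  · decide
  · exact ab_of_not_cube (by norm_num) (by rw [hN]; norm_num)
  · intro p hp q hq hpq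
    obtain rfl := List.mem_singleton.1 hp
    simp only [List.mem_cons, List.not_mem_nil, or_false] at hq
    rcases hq with rfl | rfl | rfl | rfl
    · exact absurd rfl hpq
    · obtain ⟨y, hy, hc⟩ := H724.IMJThree.exists_five h
      exact (nc_of_card (p := 5) (q := 3) (a := 5) (by norm_num) (by norm_num) ⟨1, by rw [hy, pow_one]⟩
        (by rw [hN]; norm_num) (by rw [hc]; norm_num)).symm
    · obtain ⟨y, hy⟩ := exists_prime_orderOf_dvd_card' (G := G) 17 (by rw [hN]; norm_num)
      exact (nc_of_card (p := 17) (q := 3) (a := 1) (by norm_num) (by norm_num) ⟨1, by rw [hy, pow_one]⟩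
        (by rw [hN]; norm_num) (by rw [(H898.J3Cent.seventeen h hy).1]; norm_num)).symm
    · obtain ⟨y, hy⟩ := exists_prime_orderOf_dvd_card' (G := G) 19 (by rw [hN]; norm_num)
      exact (nc_of_card (p := 19) (q := 3) (a := 1) (by norm_num) (by norm_num) ⟨1, by rw [hy, pow_one]⟩
        (by rw [hN]; norm_num) (by rw [H898.J3Cent.card_nineteen h hy]; norm_num)).symm
  · intro r hr
    obtain rfl := List.mem_singleton.1 hr
    exact solv_of_na (by norm_num) (by rw [hN]; norm_num) (na_j3 h)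
  · intro a ha; exact absurd ha (by simp)
  · decide

end Cfsg.Agent.H981.NH
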