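import Cfsg.Agent.H802.OC.Base
import Cfsg.Agent.KFacts.Th.Main

/-!
# S4063: the row `Th` (helper981)

All automorphisms are inner, `C(a) = Q.A9`, `Q = 2^{1+8}`; there are elements `x ∈ Q` and `w ∉ Q` of order 4 with `x² = w² = a`.
-/

set_option autoImplicit false
set_option maxRecDepth 100000

namespace Cfsg.Agent.H981.OCTh

open Cfsg Cfsg.Agent.H802.OC Subgroup
open Cfsg.Agent.Th.Base Cfsg.Agent.Th.Word Cfsg.Agent.Th.RelWords Cfsg.Agent.Th.PermTab
  Cfsg.Agent.Th.KOracle Cfsg.Agent.Th.KPerm Cfsg.Agent.Th.NineAct Cfsg.Agent.Th.CStruct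
  Cfsg.Agent.Th.COracleDef
open Cfsg.Agent.KFacts.Th.Mask Cfsg.Agent.KFacts.Th.Struct

universe u

variable {G : Type u} [Group G] {γ : ℕ → G}

theorem check_x : corc ((wc 0 ++ wc 1) ++ ((wc 0 ++ wc 1) ++ [1])) = true := by decide +kernel

theorem check_w : corc ((10 :: (wc 1 ++ wc 2)) ++ ((10 :: (wc 1 ++ wc 2)) ++ [1])) = true := by decide +kernel

section

variable (h : Ctx γ)
include h

theorem aa : γ 1 * γ 1 = 1 := by
  have h1 := Cfsg.Agent.Th.COracleSound.corc_sound h.inv h.C (w := [1, 1]) (by decide +kernel)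
  rwa [ev_cons, ev_singleton] at h1

theorem sq_of_check {w : List ℕ} (hw : corc (w ++ (w ++ [1])) = true) : ev γ w * ev γ w = γ 1 := by
  have h1 := Cfsg.Agent.Th.COracleSound.corc_sound h.inv h.C hw
  rw [ev_append, ev_append, ev_singleton] at h1
  have h2 := aa h
  calc ev γ w * ev γ w = (ev γ w * (ev γ w * γ 1)) * (γ 1)⁻¹ := by group
    _ = (γ 1)⁻¹ := by rw [h1, one_mul]
    _ = γ 1 := inv_eq_of_mul_eq_one_left h2

theorem u_notMem : γ 10 ∉ Q0 γ := by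
  intro h4
  obtain ⟨f, -, hker, hfw⟩ := h.exists_epi
  have h1 : (⟨γ 10, h.Q_le h4⟩ : sub γ isC) ∈ f.ker := by rw [hker, Subgroup.mem_subgroupOf]; exact h4
  rw [MonoidHom.mem_ker] at h1
  have hw : ∀ x ∈ [10], isC x = true := by decide
  have h2 := hfw [10] hw
  have h3 : (⟨ev γ [10], ev_mem_sub hw⟩ : sub γ isC) = ⟨γ 10, h.Q_le h4⟩ := Subtype.ext (ev_singleton γ 10)
  rw [h3, h1] at h2
  have h5 := ev_rho_inv_apply isTab9 hw (3 : Fin 9)
  rw [← h2] at h5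
  revert h5
  simp
  decide +kernel

theorem cc_mem (i : Fin 9) : ev γ (wc i) ∈ Q0 γ := Subgroup.subset_closure (Or.inr ⟨i, rfl⟩)

theorem w_notMem : ev γ (10 :: (wc 1 ++ wc 2)) ∉ Q0 γ := by
  rw [ev_cons, ev_append]
  intro h1
  refine u_notMem h ?_
  have h2 : ev γ (wc 1) * ev γ (wc 2) ∈ Q0 γ := mul_mem (cc_mem h 1) (cc_mem h 2)
  exact (Subgroup.mul_mem_cancel_right _ h2).1 h1

theorem x_mem : ev γ (wc 0 ++ wc 1) ∈ Q0 γ := by
  rw [ev_append]
  exact mul_mem (cc_mem h 0) (cc_mem h 1)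

theorem order_four {y : G} (hy : y * y = γ 1) : orderOf y = 4 := by
  have : Fact (Nat.Prime 2) := ⟨Nat.prime_two⟩
  refine orderOf_eq_prime_pow (p := 2) (n := 1) ?_ ?_
  · rw [pow_one, pow_two, hy]
    exact h.a1
  · rw [show (2 : ℕ) ^ (1 + 1) = 2 * 2 from rfl, pow_mul, pow_two y, hy, pow_two, aa h]

theorem not_autOC (hin : ∀ α : MulAut G, ∃ k : G, α = MulAut.conj k) : ¬ IsAutOC G := by
  intro hO
  have hx := sq_of_check h check_x
  have hw := sq_of_check h check_w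
  obtain ⟨α, hα⟩ := hO (ev γ (wc 0 ++ wc 1)) (ev γ (10 :: (wc 1 ++ wc 2)))
    ((order_four h hx).trans (order_four h hw).symm)
  obtain ⟨k, rfl⟩ := hin α
  have ha : MulAut.conj k (γ 1) = γ 1 := by
    rw [← hx, map_mul, hα, hw, hx]
  rw [MulAut.conj_apply] at ha
  refine w_notMem h ?_
  rw [← hα]
  have h1 := h.Q_conj (Subgroup.inv_mem _ (h.mem_C.mpr (mul_inv_eq_iff_eq_mul.1 ha))) (x_mem h)
  rwa [inv_inv] at h1

end

theorem row_th {S : Type*} [Group S] (h : Spor.IsoTh S) : Row S := by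
  obtain ⟨e⟩ := h
  exact Row.congr e.symm (row_of_not_autOC (not_autOC Cfsg.Agent.KFacts.Th.Main.ctx Cfsg.Agent.KFacts.Th.Main.inner))

end Cfsg.Agent.H981.OCTh
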