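import Cfsg.Agent.H254.FxEven

/-!
# Climbing the subgroup lattice of a small group under a bound for the fixity (helper981)

`H` a subgroup of a group `G` (with a faithful permutation representation of small degree) such that every
non-identity element fixes at most `k` cosets of `H`: if `x ≠ 1` and `g⁻¹ x g ∈ H` for `k + 1` elements `g`, then two
of them lie in the same coset of `H`. Certificates (`Node`) list subgroups up to conjugacy, with for each of them
such an `x` and such elements `g`, and for each pair of them the larger subgroup obtained. `climb` is the soundness.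
-/

set_option autoImplicit false

namespace Cfsg.Agent.H981.Climb

open Subgroup Cfsg.Agent.H254.Ev Cfsg.Agent.H254.Fx

/-! ### codes of permutations -/

/-- composition of permutations given by their images -/
def mulL (a b : List ℕ) : List ℕ := b.map fun i => a.getD i 0

/-- the images -/
def codeP {n : ℕ} (g : Equiv.Perm (Fin n)) : List ℕ := List.ofFn fun i => (g i : ℕ)

theorem codeP_injective {n : ℕ} {g h : Equiv.Perm (Fin n)} (e : codeP g = codeP h) : g = h := by
  have h1 := List.ofFn_injective e
  ext i
  exact congrFun h1 i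

theorem codeP_one {n : ℕ} : codeP (1 : Equiv.Perm (Fin n)) = List.range n := by
  unfold codeP
  apply List.ext_getElem
  · simp
  · intro i h1 h2
    simp

theorem codeP_mul {n : ℕ} (g h : Equiv.Perm (Fin n)) : codeP (g * h) = mulL (codeP g) (codeP h) := by
  unfold codeP mulL
  apply List.ext_getElem
  · simp
  · intro i h1 h2
    simp

/-- value of a word -/
def evL (n : ℕ) (cs : List (List ℕ)) (w : List ℕ) : List ℕ :=
  w.foldr (fun i acc => mulL (cs.getD i (List.range n)) acc) (List.range n)

/-- value of a word -/
def evG {G : Type*} [Group G] (gs : List G) (w : List ℕ) : G := w.foldr (fun i acc => gs.getD i 1 * acc) 1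

theorem evG_mem {G : Type*} [Group G] {H : Subgroup G} {gs : List G} (h : ∀ g ∈ gs, g ∈ H) (w : List ℕ) :
    evG gs w ∈ H := by
  induction w with
  | nil => exact one_mem H
  | cons i w ih =>
    refine mul_mem ?_ ih
    rw [List.getD_eq_getElem?_getD]
    by_cases hi : i < gs.length
    · rw [List.getElem?_eq_getElem hi]
      exact h _ (List.getElem_mem hi)
    · rw [List.getElem?_eq_none (by omega)]
      exact one_mem H

section

variable {G : Type*} [Group G] {n : ℕ} (ρ : G →* Equiv.Perm (Fin n))

theorem code_evG (gs : List G) (w : List ℕ) :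
    codeP (ρ (evG gs w)) = evL n (gs.map fun g => codeP (ρ g)) w := by
  induction w with
  | nil =>
    show codeP (ρ 1) = List.range n
    rw [map_one, codeP_one]
  | cons i w ih =>
    show codeP (ρ (gs.getD i 1 * evG gs w)) = mulL _ (evL n _ w)
    rw [map_mul, codeP_mul, ih]
    congr 1
    rw [List.getD_eq_getElem?_getD, List.getD_eq_getElem?_getD, List.getElem?_map]
    by_cases hi : i < gs.length
    · rw [List.getElem?_eq_getElem hi]
      rfl
    · rw [List.getElem?_eq_none (by omega)]
      show codeP (ρ 1) = List.range n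
      rw [map_one, codeP_one]

end

/-! ### certificates -/

/-- the subgroup obtained from the pair `(a, b)` -/
structure Br where
  a : ℕ
  b : ℕ
  /-- `g_a⁻¹ g_b`, a word in the generators of `G` -/
  y : List ℕ
  /-- the number of the larger subgroup -/
  l : ℕ
  /-- the conjugating element, a word in the generators of `G` -/
  c : List ℕ
  /-- the generators of the larger subgroup as words in those of the smaller one and `y` -/
  ms : List (List ℕ)

/-- a subgroup with `k + 1` elements `g` such that `g⁻¹ x g` lies in it -/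
structure Node where
  /-- generators of the subgroup, words in the generators of `G` -/
  kg : List (List ℕ)
  x : List ℕ
  g : List (List ℕ)
  /-- `g⁻¹ x g` as words in `kg` -/
  m : List (List ℕ)
  br : List Br
  /-- no check -/
  term : Bool

instance : Inhabited Node := ⟨⟨[], [], [], [], [], true⟩⟩

/-- check of two lists of the same length -/
def all2 {α β : Type*} (p : α → β → Bool) : List α → List β → Bool
  | [], [] => true
  | a :: as, b :: bs => p a b && all2 p as bs
  | _, _ => false

theorem all2_spec {α β : Type*} {p : α → β → Bool} : ∀ {as : List α} {bs : List β}, all2 p as bs = true →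
    as.length = bs.length ∧ ∀ i (h1 : i < as.length) (h2 : i < bs.length), p as[i] bs[i] = true
  | [], [], _ => ⟨rfl, fun i h => absurd h (Nat.not_lt_zero i)⟩
  | a :: as, b :: bs, h => by
    rw [all2, Bool.and_eq_true] at h
    obtain ⟨h1, h2⟩ := all2_spec h.2
    refine ⟨by rw [List.length_cons, List.length_cons, h1], fun i hi hj => ?_⟩
    cases i with
    | zero => exact h.1
    | succ i =>
      rw [List.getElem_cons_succ, List.getElem_cons_succ]
      exact h2 i _ _
  | [], _ :: _, h => by simp [all2] at h
  | _ :: _, [], h => by simp [all2] at h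

/-- check of a branch -/
def okBr (n : ℕ) (cs : List (List ℕ)) (nodes : List Node) (i : ℕ) (kc : List (List ℕ)) (gc : List (List ℕ))
    (B : Br) : Bool :=
  let yc := evL n cs B.y
  let cc := evL n cs B.c
  let ks := kc ++ [yc]
  (gc.getD B.b [] == mulL (gc.getD B.a []) yc) && Nat.blt i B.l && Nat.blt B.l nodes.length &&
    all2 (fun m t => mulL (evL n ks m) cc == mulL cc (evL n cs t)) B.ms (nodes.getD B.l default).kg

/-- check of a node -/
def okNode (n k : ℕ) (cs : List (List ℕ)) (nodes : List Node) (i : ℕ) (N : Node) : Bool :=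
  N.term ||
    (let kc := N.kg.map (evL n cs)
     let xc := evL n cs N.x
     let gc := N.g.map (evL n cs)
     !(xc == List.range n) && Nat.beq N.g.length (k + 1) &&
       all2 (fun g m => mulL xc g == mulL g (evL n kc m)) gc N.m &&
       (List.range (k + 1)).all (fun b => (List.range b).all fun a =>
         N.br.any fun B => Nat.beq B.a a && Nat.beq B.b b) &&
       N.br.all (okBr n cs nodes i kc gc))

/-- check of all nodes -/
def okAll (n k : ℕ) (cs : List (List ℕ)) (nodes : List Node) : Bool :=
  (List.range nodes.length).all fun i => okNode n k cs nodes i (nodes.getD i default)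

section

variable {G : Type*} [Group G]

/-- the pigeonhole principle for the fixed cosets -/
theorem pigeon [Finite G] {k : ℕ} {H : Subgroup G} (h : FixLE k H) {x : G} (hx : x ≠ 1) (L : List G)
    (hL : L.length = k + 1) (hm : ∀ g ∈ L, g⁻¹ * x * g ∈ H) :
    ∃ a b, ∃ (ha : a < L.length) (hb : b < L.length), a < b ∧ L[a]⁻¹ * L[b] ∈ H := by
  by_contra hc
  push Not at hc
  let f : Fin L.length → G ⧸ H := fun i => ((L[i] : G) : G ⧸ H)
  have hinj : Function.Injective f := by
    intro i j hij
    by_contra hne
    have hij' : L[i]⁻¹ * L[j] ∈ H := QuotientGroup.eq.1 hij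
    rcases lt_or_gt_of_ne hne with h1 | h1
    · exact hc i j i.2 j.2 h1 hij'
    · refine hc j i j.2 i.2 h1 ?_
      have h2 := inv_mem hij'
      have e : (L[i]⁻¹ * L[j])⁻¹ = L[j]⁻¹ * L[i] := by group
      rw [e] at h2
      exact h2
  have h1 : (Set.range f).ncard ≤ (MulAction.fixedBy (G ⧸ H) x).ncard := by
    refine Set.ncard_le_ncard ?_ (Set.toFinite _)
    rintro _ ⟨i, rfl⟩
    exact (mk_mem_fixedBy x _).2 (hm _ (List.getElem_mem i.2))
  have h2 := h x hx
  rw [← Set.image_univ, Set.ncard_image_of_injective _ hinj, Set.ncard_univ, Nat.card_eq_fintype_card,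
    Fintype.card_fin, hL] at h1
  omega

variable {n k : ℕ} (ρ : G →* Equiv.Perm (Fin n))

theorem mem_conj_inv {H : Subgroup G} {c t m : G} (hm : m ∈ H) (h : m * c = c * t) :
    t ∈ H.map (MulAut.conj c⁻¹).toMonoidHom := by
  refine ⟨m, hm, ?_⟩
  show c⁻¹ * m * c⁻¹⁻¹ = t
  rw [inv_inv, mul_assoc, h]
  group

/-- **Soundness.** -/
theorem climb [Finite G] (hρ : Function.Injective ρ) (gs : List G) (nodes : List Node)
    (hok : okAll n k (gs.map fun g => codeP (ρ g)) nodes = true) (Goal : Subgroup G → Prop)
    (hgoal : ∀ (H : Subgroup G) (c : G), Goal (H.map (MulAut.conj c).toMonoidHom) → Goal H)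
    (hterm : ∀ N ∈ nodes, N.term = true → ∀ H : Subgroup G, FixLE k H → (∀ w ∈ N.kg, evG gs w ∈ H) → Goal H) :
    ∀ (j i : ℕ) (hi : i < nodes.length), nodes.length ≤ i + j → ∀ H : Subgroup G, FixLE k H →
      (∀ w ∈ nodes[i].kg, evG gs w ∈ H) → Goal H := by
  intro j
  induction j with
  | zero => intro i hi hj; omega
  | succ j ih =>
    intro i hi hj H hH hk
    have hN : okNode n k (gs.map fun g => codeP (ρ g)) nodes i nodes[i] = true := by
      unfold okAll at hok
      rw [List.all_eq_true] at hok
      have := hok i (List.mem_range.2 hi)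
      rwa [List.getD_eq_getElem?_getD, List.getElem?_eq_getElem hi, Option.getD_some] at this
    obtain ⟨N, hNd⟩ : ∃ N, N = nodes[i] := ⟨_, rfl⟩
    rw [← hNd] at hN hk
    have hinj : ∀ {a b : G}, codeP (ρ a) = codeP (ρ b) → a = b := fun h => hρ (codeP_injective h)
    have hmul : ∀ a b : G, codeP (ρ (a * b)) = mulL (codeP (ρ a)) (codeP (ρ b)) := fun a b => by
      rw [map_mul, codeP_mul]
    unfold okNode at hN
    rw [Bool.or_eq_true] at hN
    rcases hN with hN | hN
    · exact hterm N (hNd ▸ List.getElem_mem hi) hN H hH hk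
    simp only [Bool.and_eq_true, List.all_eq_true, List.mem_range, List.any_eq_true, Bool.not_eq_true',
      beq_eq_false_iff_ne, Nat.beq_eq] at hN
    obtain ⟨⟨⟨⟨hx, hlen⟩, hgm⟩, hpair⟩, hbr⟩ := hN
    -- the generators of the subgroup
    obtain ⟨kgs, hkgs⟩ : ∃ kgs, kgs = N.kg.map (evG gs) := ⟨_, rfl⟩
    have hkgsH : ∀ g ∈ kgs, g ∈ H := by
      rw [hkgs]
      intro g hg
      obtain ⟨w, hw, rfl⟩ := List.mem_map.1 hg
      exact hk w hw
    have hkc : N.kg.map (evL n (gs.map fun g => codeP (ρ g))) = kgs.map fun g => codeP (ρ g) := by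
      rw [hkgs, List.map_map]
      apply List.map_congr_left
      intro w _
      exact (code_evG ρ gs w).symm
    rw [hkc] at hgm hbr
    obtain ⟨L, hL⟩ : ∃ L, L = N.g.map (evG gs) := ⟨_, rfl⟩
    have hgc : N.g.map (evL n (gs.map fun g => codeP (ρ g))) = L.map fun g => codeP (ρ g) := by
      rw [hL, List.map_map]
      apply List.map_congr_left
      intro w _
      exact (code_evG ρ gs w).symm
    rw [hgc] at hgm hbr
    have hLlen : L.length = k + 1 := by rw [hL, List.length_map, hlen]
    obtain ⟨x, hxd⟩ : ∃ x, x = evG gs N.x := ⟨_, rfl⟩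
    have hx1 : x ≠ 1 := by
      intro h
      apply hx
      rw [← code_evG ρ gs, ← hxd, h, map_one, codeP_one]
    have hm : ∀ g ∈ L, g⁻¹ * x * g ∈ H := by
      intro g hg
      obtain ⟨a, ha, rfl⟩ := List.getElem_of_mem hg
      obtain ⟨h1, h2⟩ := all2_spec hgm
      rw [List.length_map] at h1
      have h3 := h2 a (by rw [List.length_map]; exact ha) (by omega)
      rw [beq_iff_eq, List.getElem_map, ← code_evG ρ gs, ← hxd, ← code_evG ρ kgs, ← hmul, ← hmul] at h3
      have h4 := hinj h3
      have h5 : L[a]⁻¹ * x * L[a] = evG kgs (N.m[a]'(by omega)) := by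
        rw [mul_assoc, h4]
        group
      rw [h5]
      exact evG_mem hkgsH _
    obtain ⟨a, b, ha, hb, hab, hy⟩ := pigeon hH hx1 L hLlen hm
    obtain ⟨B, hB, hBa, hBb⟩ := hpair b (by omega) a hab
    have hB1 := hbr B hB
    unfold okBr at hB1
    simp only [Bool.and_eq_true, beq_iff_eq, Nat.blt_eq] at hB1
    obtain ⟨⟨⟨h1, h2⟩, h3⟩, h4⟩ := hB1
    rw [hBa, hBb, List.getD_eq_getElem?_getD, List.getD_eq_getElem?_getD, List.getElem?_map, List.getElem?_map,
      List.getElem?_eq_getElem ha, List.getElem?_eq_getElem hb, ← code_evG ρ gs] at h1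
    simp only [Option.map_some, Option.getD_some] at h1
    rw [← hmul] at h1
    have hy2 : evG gs B.y ∈ H := by
      have h5 := hinj h1
      have h6 : evG gs B.y = L[a]⁻¹ * L[b] := by rw [h5]; group
      rw [h6]
      exact hy
    obtain ⟨ks, hks⟩ : ∃ ks, ks = kgs ++ [evG gs B.y] := ⟨_, rfl⟩
    have hksH : ∀ g ∈ ks, g ∈ H := by
      rw [hks]
      intro g hg
      rcases List.mem_append.1 hg with hg | hg
      · exact hkgsH g hg
      · rw [List.mem_singleton.1 hg]
        exact hy2
    have hksc : (kgs.map fun g => codeP (ρ g)) ++ [evL n (gs.map fun g => codeP (ρ g)) B.y] =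
        ks.map fun g => codeP (ρ g) := by
      rw [hks, List.map_append, List.map_singleton, ← code_evG ρ gs]
    rw [hksc, List.getD_eq_getElem?_getD, List.getElem?_eq_getElem h3, Option.getD_some] at h4
    obtain ⟨h5, h6⟩ := all2_spec h4
    refine hgoal H (evG gs B.c)⁻¹ (ih B.l h3 (by omega) _ (hH.conj _) ?_)
    intro w hw
    obtain ⟨t, ht, rfl⟩ := List.getElem_of_mem hw
    have h7 := h6 t (by omega) ht
    rw [beq_iff_eq, ← code_evG ρ gs, ← code_evG ρ gs, ← code_evG ρ ks, ← hmul, ← hmul] at h7
    exact mem_conj_inv (evG_mem hksH _) (hinj h7)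

end

end Cfsg.Agent.H981.Climb
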