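import Cfsg.Agent.H995.CopLarge
import Cfsg.Agent.KFacts.HN.Large
import Cfsg.Agent.SigZeroHN.Main

/-!
# Coprime class sizes: the Harada-Norton group (helper981, for S4158)
-/

set_option autoImplicit false

namespace Cfsg.Agent.H981.CopHN

open Subgroup Cfsg.Agent.H530.Cop Cfsg.Agent.H995.CopTwo Cfsg.Agent.KFacts.HN Cfsg.Agent.HN

/-- a finite simple group of non-prime order is not abelian -/
theorem hna_of {G : Type*} [Group G] [Finite G] [IsSimpleGroup G] {N : ℕ} (h : Nat.card G = N) (hN : ¬ N.Prime) :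
    ¬ IsMulCommutative G := by
  intro hc
  let inst : CommGroup G := { (inferInstance : Group G) with mul_comm := hc.is_comm.comm }
  exact hN (h ▸ IsSimpleGroup.prime_card (α := G))

theorem noCop : NoCop Cfsg.Spor.HN := by
  haveI : IsSimpleGroup Cfsg.Spor.HN := Cfsg.Agent.HN.XWords.simple_HN
  haveI : Finite Cfsg.Spor.HN := Cfsg.Agent.HN.Index.finite_HN
  refine noCop_of_large (hna_of Classes.card_HN (by norm_num)) large 273030912000000 3686400 Classes.card_HN
    (PCard.card_centralizer).dvd [(3,3),(5,3),(7,1),(11,1),(19,1)] (by decide +kernel) (by decide) ?_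
  exact ⟨14, by norm_num⟩

/-- **The row for HN.** -/
theorem noCop_hn {G : Type*} [Group G] [Finite G] (h : Cfsg.Spor.IsoHN G) : Cfsg.Agent.H530.Cop.NoCop G := by
  obtain ⟨e⟩ := h
  exact noCop.congr e.symm

end Cfsg.Agent.H981.CopHN
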