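import Cfsg.Agent.H995.CopLarge
import Cfsg.Agent.KFacts.SuzLarge
import Cfsg.Agent.SporadicRecognition.SuzOrder
import Cfsg.Agent.SuzThree.CentCard

/-!
# Coprime class sizes: the Suzuki group (helper981, for S4158)
-/

set_option autoImplicit false

namespace Cfsg.Agent.H981.CopSuz

open Subgroup Cfsg.Agent.H530.Cop Cfsg.Agent.H995.CopTwo

theorem noCop : NoCop Cfsg.Spor.Suz := by
  haveI : IsSimpleGroup Cfsg.Spor.Suz := Cfsg.Agent.SporadicRecognition.SuzOrder.simple
  have hc : Nat.card Cfsg.Spor.Suz = 448345497600 := Cfsg.Agent.SporadicRecognition.SuzOrder.card_Suz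
  haveI : Finite Cfsg.Spor.Suz := Nat.finite_of_card_ne_zero (by rw [hc]; norm_num)
  have hna : ¬ IsMulCommutative Cfsg.Spor.Suz := by
    intro h
    let inst : CommGroup Cfsg.Spor.Suz :=
      { (inferInstance : Group Cfsg.Spor.Suz) with mul_comm := h.is_comm.comm }
    have h2 : (448345497600 : ℕ).Prime := hc ▸ IsSimpleGroup.prime_card (α := Cfsg.Spor.Suz)
    revert h2
    norm_num
  refine noCop_of_large hna Cfsg.Agent.KFacts.SuzLarge.large 448345497600 3317760 hc
    (Cfsg.Agent.SuzThree.CentCard.card_C1).dvd [(3,5),(5,2),(7,1),(11,1),(13,1)] (by decide +kernel) (by decide) ?_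
  exact ⟨13, by norm_num⟩

/-- **The row for Suz.** -/
theorem noCop_suz {G : Type*} [Group G] [Finite G] (h : Cfsg.Spor.IsoSuz G) : Cfsg.Agent.H530.Cop.NoCop G := by
  obtain ⟨e⟩ := h
  exact noCop.congr e.symm

end Cfsg.Agent.H981.CopSuz
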